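import Cfsg.Agent.Lib.CosetEnum.SuzIdx.Data

/-!
# Checks for SuzIdx
-/

set_option autoImplicit false

namespace Cfsg.Agent.Lib.CosetEnum.SuzIdx

open Cfsg.Agent.Lib.CosetEnum

theorem items_chunk4 : allUpTo cert.itemOk 24000 6000 = true := by decide +kernel

theorem items_chunk5 : allUpTo cert.itemOk 30000 6000 = true := by decide +kernel

theorem items_chunk6 : allUpTo cert.itemOk 36000 6000 = true := by decide +kernel

theorem items_chunk7 : allUpTo cert.itemOk 42000 6000 = true := by decide +kernel

end Cfsg.Agent.Lib.CosetEnum.SuzIdx
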