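import Cfsg.Agent.Lib.CosetEnum.SuzIdx.Data

/-!
# Checks for SuzIdx
-/

set_option autoImplicit false

namespace Cfsg.Agent.Lib.CosetEnum.SuzIdx

open Cfsg.Agent.Lib.CosetEnum

theorem items_chunk20 : allUpTo cert.itemOk 120000 6000 = true := by decide +kernel

theorem items_chunk21 : allUpTo cert.itemOk 126000 6000 = true := by decide +kernel

theorem items_chunk22 : allUpTo cert.itemOk 132000 6000 = true := by decide +kernel

theorem items_chunk23 : allUpTo cert.itemOk 138000 6000 = true := by decide +kernel

end Cfsg.Agent.Lib.CosetEnum.SuzIdx
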