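import Cfsg.Agent.Lib.CosetEnum.SuzIdx.Data

/-!
# Checks for SuzIdx
-/

set_option autoImplicit false

namespace Cfsg.Agent.Lib.CosetEnum.SuzIdx

open Cfsg.Agent.Lib.CosetEnum

theorem items_chunk24 : allUpTo cert.itemOk 144000 6000 = true := by decide +kernel

theorem items_chunk25 : allUpTo cert.itemOk 150000 6000 = true := by decide +kernel

theorem items_chunk26 : allUpTo cert.itemOk 156000 6000 = true := by decide +kernel

theorem items_chunk27 : allUpTo cert.itemOk 162000 6000 = true := by decide +kernel

end Cfsg.Agent.Lib.CosetEnum.SuzIdx
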