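import Cfsg.Agent.Lib.CosetEnum.SuzIdx.Data
import Cfsg.Agent.Lib.CosetEnum.SuzIdx.Check0

/-!
# Checks for SuzIdx
-/

set_option autoImplicit false

namespace Cfsg.Agent.Lib.CosetEnum.SuzIdx

open Cfsg.Agent.Lib.CosetEnum

theorem items_chunk32 : allUpTo cert.itemOk 192000 6000 = true := by decide +kernel

theorem items_chunk33 : allUpTo cert.itemOk 198000 6000 = true := by decide +kernel

theorem items_chunk34 : allUpTo cert.itemOk 204000 6000 = true := by decide +kernel

theorem items_chunk35 : allUpTo cert.itemOk 210000 6000 = true := by decide +kernel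

end Cfsg.Agent.Lib.CosetEnum.SuzIdx
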