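import Cfsg.Agent.Lib.CosetEnum.SuzIdx.Data
import Cfsg.Agent.Lib.CosetEnum.SuzIdx.Check25

/-!
# Checks for SuzIdx
-/

set_option autoImplicit false

namespace Cfsg.Agent.Lib.CosetEnum.SuzIdx

open Cfsg.Agent.Lib.CosetEnum

theorem rels_chunk61 : allUpTo cert.relOk 15250 250 = true := by decide +kernel

theorem rels_chunk62 : allUpTo cert.relOk 15500 250 = true := by decide +kernel

theorem rels_chunk63 : allUpTo cert.relOk 15750 250 = true := by decide +kernel

theorem rels_chunk64 : allUpTo cert.relOk 16000 250 = true := by decide +kernel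

end Cfsg.Agent.Lib.CosetEnum.SuzIdx
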