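import Cfsg.Agent.Lib.CosetEnum.SuzIdx.Data
import Cfsg.Agent.Lib.CosetEnum.SuzIdx.Check33

/-!
# Checks for SuzIdx
-/

set_option autoImplicit false

namespace Cfsg.Agent.Lib.CosetEnum.SuzIdx

open Cfsg.Agent.Lib.CosetEnum

theorem back_chunk1 : allUpTo cert.backOk 8000 8000 = true := by decide +kernel

theorem back_chunk2 : allUpTo cert.backOk 16000 6880 = true := by decide +kernel

theorem imgs_chunk0 : allUpTo cert.imgOk 0 8000 = true := by decide +kernel

theorem imgs_chunk1 : allUpTo cert.imgOk 8000 8000 = true := by decide +kernel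

end Cfsg.Agent.Lib.CosetEnum.SuzIdx
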