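import Cfsg.Agent.Lib.CosetEnum.Close
import Cfsg.Agent.Lib.CosetEnum.SuzIdx.Check0
import Cfsg.Agent.Lib.CosetEnum.SuzIdx.Check1
import Cfsg.Agent.Lib.CosetEnum.SuzIdx.Check2
import Cfsg.Agent.Lib.CosetEnum.SuzIdx.Check3
import Cfsg.Agent.Lib.CosetEnum.SuzIdx.Check4
import Cfsg.Agent.Lib.CosetEnum.SuzIdx.Check5
import Cfsg.Agent.Lib.CosetEnum.SuzIdx.Check6
import Cfsg.Agent.Lib.CosetEnum.SuzIdx.Check7
import Cfsg.Agent.Lib.CosetEnum.SuzIdx.Check8
import Cfsg.Agent.Lib.CosetEnum.SuzIdx.Check9
import Cfsg.Agent.Lib.CosetEnum.SuzIdx.Check10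
import Cfsg.Agent.Lib.CosetEnum.SuzIdx.Check11
import Cfsg.Agent.Lib.CosetEnum.SuzIdx.Check12
import Cfsg.Agent.Lib.CosetEnum.SuzIdx.Check13
import Cfsg.Agent.Lib.CosetEnum.SuzIdx.Check14
import Cfsg.Agent.Lib.CosetEnum.SuzIdx.Check15
import Cfsg.Agent.Lib.CosetEnum.SuzIdx.Check16
import Cfsg.Agent.Lib.CosetEnum.SuzIdx.Check17
import Cfsg.Agent.Lib.CosetEnum.SuzIdx.Check18
import Cfsg.Agent.Lib.CosetEnum.SuzIdx.Check19
import Cfsg.Agent.Lib.CosetEnum.SuzIdx.Check20
import Cfsg.Agent.Lib.CosetEnum.SuzIdx.Check21
import Cfsg.Agent.Lib.CosetEnum.SuzIdx.Check22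
import Cfsg.Agent.Lib.CosetEnum.SuzIdx.Check23
import Cfsg.Agent.Lib.CosetEnum.SuzIdx.Check24
import Cfsg.Agent.Lib.CosetEnum.SuzIdx.Check25
import Cfsg.Agent.Lib.CosetEnum.SuzIdx.Check26
import Cfsg.Agent.Lib.CosetEnum.SuzIdx.Check27
import Cfsg.Agent.Lib.CosetEnum.SuzIdx.Check28
import Cfsg.Agent.Lib.CosetEnum.SuzIdx.Check29
import Cfsg.Agent.Lib.CosetEnum.SuzIdx.Check30
import Cfsg.Agent.Lib.CosetEnum.SuzIdx.Check31
import Cfsg.Agent.Lib.CosetEnum.SuzIdx.Check32
import Cfsg.Agent.Lib.CosetEnum.SuzIdx.Check33
import Cfsg.Agent.Lib.CosetEnum.SuzIdx.Check34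
import Cfsg.Agent.Lib.CosetEnum.SuzIdx.Check35
import Cfsg.Agent.Lib.CosetEnum.SuzIdx.Check36
import Cfsg.Agent.Lib.CosetEnum.SuzIdx.Check37
import Cfsg.Agent.Lib.CosetEnum.SuzIdx.Check38
import Cfsg.Agent.Lib.CosetEnum.SuzIdx.Check39
import Cfsg.Agent.Lib.CosetEnum.SuzIdx.Check40
import Cfsg.Agent.Lib.CosetEnum.SuzIdx.Check41
import Cfsg.Agent.Lib.CosetEnum.SuzIdx.Check42

/-!
# The certificate for SuzIdx is correct
-/

set_option autoImplicit false

namespace Cfsg.Agent.Lib.CosetEnum.SuzIdx

open Cfsg.Agent.Lib.CosetEnum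

theorem items_upTo0 : ∀ i < 0 + 6000, cert.itemOk i = true :=
  allUpTo_append (n := 0) (fun i hi => absurd hi (Nat.not_lt_zero i)) items_chunk0

theorem items_upTo1 : ∀ i < 6000 + 6000, cert.itemOk i = true :=
  allUpTo_append (n := 6000) items_upTo0 items_chunk1

theorem items_upTo2 : ∀ i < 12000 + 6000, cert.itemOk i = true :=
  allUpTo_append (n := 12000) items_upTo1 items_chunk2

theorem items_upTo3 : ∀ i < 18000 + 6000, cert.itemOk i = true :=
  allUpTo_append (n := 18000) items_upTo2 items_chunk3

theorem items_upTo4 : ∀ i < 24000 + 6000, cert.itemOk i = true :=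
  allUpTo_append (n := 24000) items_upTo3 items_chunk4

theorem items_upTo5 : ∀ i < 30000 + 6000, cert.itemOk i = true :=
  allUpTo_append (n := 30000) items_upTo4 items_chunk5

theorem items_upTo6 : ∀ i < 36000 + 6000, cert.itemOk i = true :=
  allUpTo_append (n := 36000) items_upTo5 items_chunk6

theorem items_upTo7 : ∀ i < 42000 + 6000, cert.itemOk i = true :=
  allUpTo_append (n := 42000) items_upTo6 items_chunk7

theorem items_upTo8 : ∀ i < 48000 + 6000, cert.itemOk i = true :=
  allUpTo_append (n := 48000) items_upTo7 items_chunk8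

theorem items_upTo9 : ∀ i < 54000 + 6000, cert.itemOk i = true :=
  allUpTo_append (n := 54000) items_upTo8 items_chunk9

theorem items_upTo10 : ∀ i < 60000 + 6000, cert.itemOk i = true :=
  allUpTo_append (n := 60000) items_upTo9 items_chunk10

theorem items_upTo11 : ∀ i < 66000 + 6000, cert.itemOk i = true :=
  allUpTo_append (n := 66000) items_upTo10 items_chunk11

theorem items_upTo12 : ∀ i < 72000 + 6000, cert.itemOk i = true :=
  allUpTo_append (n := 72000) items_upTo11 items_chunk12

theorem items_upTo13 : ∀ i < 78000 + 6000, cert.itemOk i = true :=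
  allUpTo_append (n := 78000) items_upTo12 items_chunk13

theorem items_upTo14 : ∀ i < 84000 + 6000, cert.itemOk i = true :=
  allUpTo_append (n := 84000) items_upTo13 items_chunk14

theorem items_upTo15 : ∀ i < 90000 + 6000, cert.itemOk i = true :=
  allUpTo_append (n := 90000) items_upTo14 items_chunk15

theorem items_upTo16 : ∀ i < 96000 + 6000, cert.itemOk i = true :=
  allUpTo_append (n := 96000) items_upTo15 items_chunk16

theorem items_upTo17 : ∀ i < 102000 + 6000, cert.itemOk i = true :=
  allUpTo_append (n := 102000) items_upTo16 items_chunk17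

theorem items_upTo18 : ∀ i < 108000 + 6000, cert.itemOk i = true :=
  allUpTo_append (n := 108000) items_upTo17 items_chunk18

theorem items_upTo19 : ∀ i < 114000 + 6000, cert.itemOk i = true :=
  allUpTo_append (n := 114000) items_upTo18 items_chunk19

theorem items_upTo20 : ∀ i < 120000 + 6000, cert.itemOk i = true :=
  allUpTo_append (n := 120000) items_upTo19 items_chunk20

theorem items_upTo21 : ∀ i < 126000 + 6000, cert.itemOk i = true :=
  allUpTo_append (n := 126000) items_upTo20 items_chunk21

theorem items_upTo22 : ∀ i < 132000 + 6000, cert.itemOk i = true :=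
  allUpTo_append (n := 132000) items_upTo21 items_chunk22

theorem items_upTo23 : ∀ i < 138000 + 6000, cert.itemOk i = true :=
  allUpTo_append (n := 138000) items_upTo22 items_chunk23

theorem items_upTo24 : ∀ i < 144000 + 6000, cert.itemOk i = true :=
  allUpTo_append (n := 144000) items_upTo23 items_chunk24

theorem items_upTo25 : ∀ i < 150000 + 6000, cert.itemOk i = true :=
  allUpTo_append (n := 150000) items_upTo24 items_chunk25

theorem items_upTo26 : ∀ i < 156000 + 6000, cert.itemOk i = true :=
  allUpTo_append (n := 156000) items_upTo25 items_chunk26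

theorem items_upTo27 : ∀ i < 162000 + 6000, cert.itemOk i = true :=
  allUpTo_append (n := 162000) items_upTo26 items_chunk27

theorem items_upTo28 : ∀ i < 168000 + 6000, cert.itemOk i = true :=
  allUpTo_append (n := 168000) items_upTo27 items_chunk28

theorem items_upTo29 : ∀ i < 174000 + 6000, cert.itemOk i = true :=
  allUpTo_append (n := 174000) items_upTo28 items_chunk29

theorem items_upTo30 : ∀ i < 180000 + 6000, cert.itemOk i = true :=
  allUpTo_append (n := 180000) items_upTo29 items_chunk30

theorem items_upTo31 : ∀ i < 186000 + 6000, cert.itemOk i = true :=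
  allUpTo_append (n := 186000) items_upTo30 items_chunk31

theorem items_upTo32 : ∀ i < 192000 + 6000, cert.itemOk i = true :=
  allUpTo_append (n := 192000) items_upTo31 items_chunk32

theorem items_upTo33 : ∀ i < 198000 + 6000, cert.itemOk i = true :=
  allUpTo_append (n := 198000) items_upTo32 items_chunk33

theorem items_upTo34 : ∀ i < 204000 + 6000, cert.itemOk i = true :=
  allUpTo_append (n := 204000) items_upTo33 items_chunk34

theorem items_upTo35 : ∀ i < 210000 + 6000, cert.itemOk i = true :=
  allUpTo_append (n := 210000) items_upTo34 items_chunk35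

theorem items_upTo36 : ∀ i < 216000 + 6000, cert.itemOk i = true :=
  allUpTo_append (n := 216000) items_upTo35 items_chunk36

theorem items_upTo37 : ∀ i < 222000 + 671, cert.itemOk i = true :=
  allUpTo_append (n := 222000) items_upTo36 items_chunk37

theorem close_upTo0 : ∀ i < 0 + 700, cert.closeOk i = true :=
  allUpTo_append (n := 0) (fun i hi => absurd hi (Nat.not_lt_zero i)) close_chunk0

theorem close_upTo1 : ∀ i < 700 + 700, cert.closeOk i = true :=
  allUpTo_append (n := 700) close_upTo0 close_chunk1

theorem close_upTo2 : ∀ i < 1400 + 700, cert.closeOk i = true :=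
  allUpTo_append (n := 1400) close_upTo1 close_chunk2

theorem close_upTo3 : ∀ i < 2100 + 700, cert.closeOk i = true :=
  allUpTo_append (n := 2100) close_upTo2 close_chunk3

theorem close_upTo4 : ∀ i < 2800 + 700, cert.closeOk i = true :=
  allUpTo_append (n := 2800) close_upTo3 close_chunk4

theorem close_upTo5 : ∀ i < 3500 + 700, cert.closeOk i = true :=
  allUpTo_append (n := 3500) close_upTo4 close_chunk5

theorem close_upTo6 : ∀ i < 4200 + 700, cert.closeOk i = true :=
  allUpTo_append (n := 4200) close_upTo5 close_chunk6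

theorem close_upTo7 : ∀ i < 4900 + 700, cert.closeOk i = true :=
  allUpTo_append (n := 4900) close_upTo6 close_chunk7

theorem close_upTo8 : ∀ i < 5600 + 700, cert.closeOk i = true :=
  allUpTo_append (n := 5600) close_upTo7 close_chunk8

theorem close_upTo9 : ∀ i < 6300 + 700, cert.closeOk i = true :=
  allUpTo_append (n := 6300) close_upTo8 close_chunk9

theorem close_upTo10 : ∀ i < 7000 + 700, cert.closeOk i = true :=
  allUpTo_append (n := 7000) close_upTo9 close_chunk10

theorem close_upTo11 : ∀ i < 7700 + 700, cert.closeOk i = true :=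
  allUpTo_append (n := 7700) close_upTo10 close_chunk11

theorem close_upTo12 : ∀ i < 8400 + 700, cert.closeOk i = true :=
  allUpTo_append (n := 8400) close_upTo11 close_chunk12

theorem close_upTo13 : ∀ i < 9100 + 700, cert.closeOk i = true :=
  allUpTo_append (n := 9100) close_upTo12 close_chunk13

theorem close_upTo14 : ∀ i < 9800 + 700, cert.closeOk i = true :=
  allUpTo_append (n := 9800) close_upTo13 close_chunk14

theorem close_upTo15 : ∀ i < 10500 + 700, cert.closeOk i = true :=
  allUpTo_append (n := 10500) close_upTo14 close_chunk15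

theorem close_upTo16 : ∀ i < 11200 + 700, cert.closeOk i = true :=
  allUpTo_append (n := 11200) close_upTo15 close_chunk16

theorem close_upTo17 : ∀ i < 11900 + 700, cert.closeOk i = true :=
  allUpTo_append (n := 11900) close_upTo16 close_chunk17

theorem close_upTo18 : ∀ i < 12600 + 700, cert.closeOk i = true :=
  allUpTo_append (n := 12600) close_upTo17 close_chunk18

theorem close_upTo19 : ∀ i < 13300 + 700, cert.closeOk i = true :=
  allUpTo_append (n := 13300) close_upTo18 close_chunk19

theorem close_upTo20 : ∀ i < 14000 + 700, cert.closeOk i = true :=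
  allUpTo_append (n := 14000) close_upTo19 close_chunk20

theorem close_upTo21 : ∀ i < 14700 + 700, cert.closeOk i = true :=
  allUpTo_append (n := 14700) close_upTo20 close_chunk21

theorem close_upTo22 : ∀ i < 15400 + 700, cert.closeOk i = true :=
  allUpTo_append (n := 15400) close_upTo21 close_chunk22

theorem close_upTo23 : ∀ i < 16100 + 700, cert.closeOk i = true :=
  allUpTo_append (n := 16100) close_upTo22 close_chunk23

theorem close_upTo24 : ∀ i < 16800 + 700, cert.closeOk i = true :=
  allUpTo_append (n := 16800) close_upTo23 close_chunk24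

theorem close_upTo25 : ∀ i < 17500 + 700, cert.closeOk i = true :=
  allUpTo_append (n := 17500) close_upTo24 close_chunk25

theorem close_upTo26 : ∀ i < 18200 + 700, cert.closeOk i = true :=
  allUpTo_append (n := 18200) close_upTo25 close_chunk26

theorem close_upTo27 : ∀ i < 18900 + 700, cert.closeOk i = true :=
  allUpTo_append (n := 18900) close_upTo26 close_chunk27

theorem close_upTo28 : ∀ i < 19600 + 700, cert.closeOk i = true :=
  allUpTo_append (n := 19600) close_upTo27 close_chunk28

theorem close_upTo29 : ∀ i < 20300 + 700, cert.closeOk i = true :=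
  allUpTo_append (n := 20300) close_upTo28 close_chunk29

theorem close_upTo30 : ∀ i < 21000 + 700, cert.closeOk i = true :=
  allUpTo_append (n := 21000) close_upTo29 close_chunk30

theorem close_upTo31 : ∀ i < 21700 + 700, cert.closeOk i = true :=
  allUpTo_append (n := 21700) close_upTo30 close_chunk31

theorem close_upTo32 : ∀ i < 22400 + 480, cert.closeOk i = true :=
  allUpTo_append (n := 22400) close_upTo31 close_chunk32

theorem rels_upTo0 : ∀ i < 0 + 250, cert.relOk i = true :=
  allUpTo_append (n := 0) (fun i hi => absurd hi (Nat.not_lt_zero i)) rels_chunk0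

theorem rels_upTo1 : ∀ i < 250 + 250, cert.relOk i = true :=
  allUpTo_append (n := 250) rels_upTo0 rels_chunk1

theorem rels_upTo2 : ∀ i < 500 + 250, cert.relOk i = true :=
  allUpTo_append (n := 500) rels_upTo1 rels_chunk2

theorem rels_upTo3 : ∀ i < 750 + 250, cert.relOk i = true :=
  allUpTo_append (n := 750) rels_upTo2 rels_chunk3

theorem rels_upTo4 : ∀ i < 1000 + 250, cert.relOk i = true :=
  allUpTo_append (n := 1000) rels_upTo3 rels_chunk4

theorem rels_upTo5 : ∀ i < 1250 + 250, cert.relOk i = true :=
  allUpTo_append (n := 1250) rels_upTo4 rels_chunk5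

theorem rels_upTo6 : ∀ i < 1500 + 250, cert.relOk i = true :=
  allUpTo_append (n := 1500) rels_upTo5 rels_chunk6

theorem rels_upTo7 : ∀ i < 1750 + 250, cert.relOk i = true :=
  allUpTo_append (n := 1750) rels_upTo6 rels_chunk7

theorem rels_upTo8 : ∀ i < 2000 + 250, cert.relOk i = true :=
  allUpTo_append (n := 2000) rels_upTo7 rels_chunk8

theorem rels_upTo9 : ∀ i < 2250 + 250, cert.relOk i = true :=
  allUpTo_append (n := 2250) rels_upTo8 rels_chunk9

theorem rels_upTo10 : ∀ i < 2500 + 250, cert.relOk i = true :=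
  allUpTo_append (n := 2500) rels_upTo9 rels_chunk10

theorem rels_upTo11 : ∀ i < 2750 + 250, cert.relOk i = true :=
  allUpTo_append (n := 2750) rels_upTo10 rels_chunk11

theorem rels_upTo12 : ∀ i < 3000 + 250, cert.relOk i = true :=
  allUpTo_append (n := 3000) rels_upTo11 rels_chunk12

theorem rels_upTo13 : ∀ i < 3250 + 250, cert.relOk i = true :=
  allUpTo_append (n := 3250) rels_upTo12 rels_chunk13

theorem rels_upTo14 : ∀ i < 3500 + 250, cert.relOk i = true :=
  allUpTo_append (n := 3500) rels_upTo13 rels_chunk14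

theorem rels_upTo15 : ∀ i < 3750 + 250, cert.relOk i = true :=
  allUpTo_append (n := 3750) rels_upTo14 rels_chunk15

theorem rels_upTo16 : ∀ i < 4000 + 250, cert.relOk i = true :=
  allUpTo_append (n := 4000) rels_upTo15 rels_chunk16

theorem rels_upTo17 : ∀ i < 4250 + 250, cert.relOk i = true :=
  allUpTo_append (n := 4250) rels_upTo16 rels_chunk17

theorem rels_upTo18 : ∀ i < 4500 + 250, cert.relOk i = true :=
  allUpTo_append (n := 4500) rels_upTo17 rels_chunk18

theorem rels_upTo19 : ∀ i < 4750 + 250, cert.relOk i = true :=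
  allUpTo_append (n := 4750) rels_upTo18 rels_chunk19

theorem rels_upTo20 : ∀ i < 5000 + 250, cert.relOk i = true :=
  allUpTo_append (n := 5000) rels_upTo19 rels_chunk20

theorem rels_upTo21 : ∀ i < 5250 + 250, cert.relOk i = true :=
  allUpTo_append (n := 5250) rels_upTo20 rels_chunk21

theorem rels_upTo22 : ∀ i < 5500 + 250, cert.relOk i = true :=
  allUpTo_append (n := 5500) rels_upTo21 rels_chunk22

theorem rels_upTo23 : ∀ i < 5750 + 250, cert.relOk i = true :=
  allUpTo_append (n := 5750) rels_upTo22 rels_chunk23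

theorem rels_upTo24 : ∀ i < 6000 + 250, cert.relOk i = true :=
  allUpTo_append (n := 6000) rels_upTo23 rels_chunk24

theorem rels_upTo25 : ∀ i < 6250 + 250, cert.relOk i = true :=
  allUpTo_append (n := 6250) rels_upTo24 rels_chunk25

theorem rels_upTo26 : ∀ i < 6500 + 250, cert.relOk i = true :=
  allUpTo_append (n := 6500) rels_upTo25 rels_chunk26

theorem rels_upTo27 : ∀ i < 6750 + 250, cert.relOk i = true :=
  allUpTo_append (n := 6750) rels_upTo26 rels_chunk27

theorem rels_upTo28 : ∀ i < 7000 + 250, cert.relOk i = true :=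
  allUpTo_append (n := 7000) rels_upTo27 rels_chunk28

theorem rels_upTo29 : ∀ i < 7250 + 250, cert.relOk i = true :=
  allUpTo_append (n := 7250) rels_upTo28 rels_chunk29

theorem rels_upTo30 : ∀ i < 7500 + 250, cert.relOk i = true :=
  allUpTo_append (n := 7500) rels_upTo29 rels_chunk30

theorem rels_upTo31 : ∀ i < 7750 + 250, cert.relOk i = true :=
  allUpTo_append (n := 7750) rels_upTo30 rels_chunk31

theorem rels_upTo32 : ∀ i < 8000 + 250, cert.relOk i = true :=
  allUpTo_append (n := 8000) rels_upTo31 rels_chunk32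

theorem rels_upTo33 : ∀ i < 8250 + 250, cert.relOk i = true :=
  allUpTo_append (n := 8250) rels_upTo32 rels_chunk33

theorem rels_upTo34 : ∀ i < 8500 + 250, cert.relOk i = true :=
  allUpTo_append (n := 8500) rels_upTo33 rels_chunk34

theorem rels_upTo35 : ∀ i < 8750 + 250, cert.relOk i = true :=
  allUpTo_append (n := 8750) rels_upTo34 rels_chunk35

theorem rels_upTo36 : ∀ i < 9000 + 250, cert.relOk i = true :=
  allUpTo_append (n := 9000) rels_upTo35 rels_chunk36

theorem rels_upTo37 : ∀ i < 9250 + 250, cert.relOk i = true :=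
  allUpTo_append (n := 9250) rels_upTo36 rels_chunk37

theorem rels_upTo38 : ∀ i < 9500 + 250, cert.relOk i = true :=
  allUpTo_append (n := 9500) rels_upTo37 rels_chunk38

theorem rels_upTo39 : ∀ i < 9750 + 250, cert.relOk i = true :=
  allUpTo_append (n := 9750) rels_upTo38 rels_chunk39

theorem rels_upTo40 : ∀ i < 10000 + 250, cert.relOk i = true :=
  allUpTo_append (n := 10000) rels_upTo39 rels_chunk40

theorem rels_upTo41 : ∀ i < 10250 + 250, cert.relOk i = true :=
  allUpTo_append (n := 10250) rels_upTo40 rels_chunk41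

theorem rels_upTo42 : ∀ i < 10500 + 250, cert.relOk i = true :=
  allUpTo_append (n := 10500) rels_upTo41 rels_chunk42

theorem rels_upTo43 : ∀ i < 10750 + 250, cert.relOk i = true :=
  allUpTo_append (n := 10750) rels_upTo42 rels_chunk43

theorem rels_upTo44 : ∀ i < 11000 + 250, cert.relOk i = true :=
  allUpTo_append (n := 11000) rels_upTo43 rels_chunk44

theorem rels_upTo45 : ∀ i < 11250 + 250, cert.relOk i = true :=
  allUpTo_append (n := 11250) rels_upTo44 rels_chunk45

theorem rels_upTo46 : ∀ i < 11500 + 250, cert.relOk i = true :=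
  allUpTo_append (n := 11500) rels_upTo45 rels_chunk46

theorem rels_upTo47 : ∀ i < 11750 + 250, cert.relOk i = true :=
  allUpTo_append (n := 11750) rels_upTo46 rels_chunk47

theorem rels_upTo48 : ∀ i < 12000 + 250, cert.relOk i = true :=
  allUpTo_append (n := 12000) rels_upTo47 rels_chunk48

theorem rels_upTo49 : ∀ i < 12250 + 250, cert.relOk i = true :=
  allUpTo_append (n := 12250) rels_upTo48 rels_chunk49

theorem rels_upTo50 : ∀ i < 12500 + 250, cert.relOk i = true :=
  allUpTo_append (n := 12500) rels_upTo49 rels_chunk50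

theorem rels_upTo51 : ∀ i < 12750 + 250, cert.relOk i = true :=
  allUpTo_append (n := 12750) rels_upTo50 rels_chunk51

theorem rels_upTo52 : ∀ i < 13000 + 250, cert.relOk i = true :=
  allUpTo_append (n := 13000) rels_upTo51 rels_chunk52

theorem rels_upTo53 : ∀ i < 13250 + 250, cert.relOk i = true :=
  allUpTo_append (n := 13250) rels_upTo52 rels_chunk53

theorem rels_upTo54 : ∀ i < 13500 + 250, cert.relOk i = true :=
  allUpTo_append (n := 13500) rels_upTo53 rels_chunk54

theorem rels_upTo55 : ∀ i < 13750 + 250, cert.relOk i = true :=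
  allUpTo_append (n := 13750) rels_upTo54 rels_chunk55

theorem rels_upTo56 : ∀ i < 14000 + 250, cert.relOk i = true :=
  allUpTo_append (n := 14000) rels_upTo55 rels_chunk56

theorem rels_upTo57 : ∀ i < 14250 + 250, cert.relOk i = true :=
  allUpTo_append (n := 14250) rels_upTo56 rels_chunk57

theorem rels_upTo58 : ∀ i < 14500 + 250, cert.relOk i = true :=
  allUpTo_append (n := 14500) rels_upTo57 rels_chunk58

theorem rels_upTo59 : ∀ i < 14750 + 250, cert.relOk i = true :=
  allUpTo_append (n := 14750) rels_upTo58 rels_chunk59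

theorem rels_upTo60 : ∀ i < 15000 + 250, cert.relOk i = true :=
  allUpTo_append (n := 15000) rels_upTo59 rels_chunk60

theorem rels_upTo61 : ∀ i < 15250 + 250, cert.relOk i = true :=
  allUpTo_append (n := 15250) rels_upTo60 rels_chunk61

theorem rels_upTo62 : ∀ i < 15500 + 250, cert.relOk i = true :=
  allUpTo_append (n := 15500) rels_upTo61 rels_chunk62

theorem rels_upTo63 : ∀ i < 15750 + 250, cert.relOk i = true :=
  allUpTo_append (n := 15750) rels_upTo62 rels_chunk63

theorem rels_upTo64 : ∀ i < 16000 + 250, cert.relOk i = true :=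
  allUpTo_append (n := 16000) rels_upTo63 rels_chunk64

theorem rels_upTo65 : ∀ i < 16250 + 250, cert.relOk i = true :=
  allUpTo_append (n := 16250) rels_upTo64 rels_chunk65

theorem rels_upTo66 : ∀ i < 16500 + 250, cert.relOk i = true :=
  allUpTo_append (n := 16500) rels_upTo65 rels_chunk66

theorem rels_upTo67 : ∀ i < 16750 + 250, cert.relOk i = true :=
  allUpTo_append (n := 16750) rels_upTo66 rels_chunk67

theorem rels_upTo68 : ∀ i < 17000 + 250, cert.relOk i = true :=
  allUpTo_append (n := 17000) rels_upTo67 rels_chunk68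

theorem rels_upTo69 : ∀ i < 17250 + 250, cert.relOk i = true :=
  allUpTo_append (n := 17250) rels_upTo68 rels_chunk69

theorem rels_upTo70 : ∀ i < 17500 + 250, cert.relOk i = true :=
  allUpTo_append (n := 17500) rels_upTo69 rels_chunk70

theorem rels_upTo71 : ∀ i < 17750 + 250, cert.relOk i = true :=
  allUpTo_append (n := 17750) rels_upTo70 rels_chunk71

theorem rels_upTo72 : ∀ i < 18000 + 250, cert.relOk i = true :=
  allUpTo_append (n := 18000) rels_upTo71 rels_chunk72

theorem rels_upTo73 : ∀ i < 18250 + 250, cert.relOk i = true :=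
  allUpTo_append (n := 18250) rels_upTo72 rels_chunk73

theorem rels_upTo74 : ∀ i < 18500 + 250, cert.relOk i = true :=
  allUpTo_append (n := 18500) rels_upTo73 rels_chunk74

theorem rels_upTo75 : ∀ i < 18750 + 250, cert.relOk i = true :=
  allUpTo_append (n := 18750) rels_upTo74 rels_chunk75

theorem rels_upTo76 : ∀ i < 19000 + 250, cert.relOk i = true :=
  allUpTo_append (n := 19000) rels_upTo75 rels_chunk76

theorem rels_upTo77 : ∀ i < 19250 + 250, cert.relOk i = true :=
  allUpTo_append (n := 19250) rels_upTo76 rels_chunk77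

theorem rels_upTo78 : ∀ i < 19500 + 250, cert.relOk i = true :=
  allUpTo_append (n := 19500) rels_upTo77 rels_chunk78

theorem rels_upTo79 : ∀ i < 19750 + 250, cert.relOk i = true :=
  allUpTo_append (n := 19750) rels_upTo78 rels_chunk79

theorem rels_upTo80 : ∀ i < 20000 + 250, cert.relOk i = true :=
  allUpTo_append (n := 20000) rels_upTo79 rels_chunk80

theorem rels_upTo81 : ∀ i < 20250 + 250, cert.relOk i = true :=
  allUpTo_append (n := 20250) rels_upTo80 rels_chunk81

theorem rels_upTo82 : ∀ i < 20500 + 250, cert.relOk i = true :=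
  allUpTo_append (n := 20500) rels_upTo81 rels_chunk82

theorem rels_upTo83 : ∀ i < 20750 + 250, cert.relOk i = true :=
  allUpTo_append (n := 20750) rels_upTo82 rels_chunk83

theorem rels_upTo84 : ∀ i < 21000 + 250, cert.relOk i = true :=
  allUpTo_append (n := 21000) rels_upTo83 rels_chunk84

theorem rels_upTo85 : ∀ i < 21250 + 250, cert.relOk i = true :=
  allUpTo_append (n := 21250) rels_upTo84 rels_chunk85

theorem rels_upTo86 : ∀ i < 21500 + 250, cert.relOk i = true :=
  allUpTo_append (n := 21500) rels_upTo85 rels_chunk86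

theorem rels_upTo87 : ∀ i < 21750 + 250, cert.relOk i = true :=
  allUpTo_append (n := 21750) rels_upTo86 rels_chunk87

theorem rels_upTo88 : ∀ i < 22000 + 250, cert.relOk i = true :=
  allUpTo_append (n := 22000) rels_upTo87 rels_chunk88

theorem rels_upTo89 : ∀ i < 22250 + 250, cert.relOk i = true :=
  allUpTo_append (n := 22250) rels_upTo88 rels_chunk89

theorem rels_upTo90 : ∀ i < 22500 + 250, cert.relOk i = true :=
  allUpTo_append (n := 22500) rels_upTo89 rels_chunk90

theorem rels_upTo91 : ∀ i < 22750 + 130, cert.relOk i = true :=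
  allUpTo_append (n := 22750) rels_upTo90 rels_chunk91

theorem back_upTo0 : ∀ i < 0 + 8000, cert.backOk i = true :=
  allUpTo_append (n := 0) (fun i hi => absurd hi (Nat.not_lt_zero i)) back_chunk0

theorem back_upTo1 : ∀ i < 8000 + 8000, cert.backOk i = true :=
  allUpTo_append (n := 8000) back_upTo0 back_chunk1

theorem back_upTo2 : ∀ i < 16000 + 6880, cert.backOk i = true :=
  allUpTo_append (n := 16000) back_upTo1 back_chunk2

theorem imgs_upTo0 : ∀ i < 0 + 8000, cert.imgOk i = true :=
  allUpTo_append (n := 0) (fun i hi => absurd hi (Nat.not_lt_zero i)) imgs_chunk0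

theorem imgs_upTo1 : ∀ i < 8000 + 8000, cert.imgOk i = true :=
  allUpTo_append (n := 8000) imgs_upTo0 imgs_chunk1

theorem imgs_upTo2 : ∀ i < 16000 + 8000, cert.imgOk i = true :=
  allUpTo_append (n := 16000) imgs_upTo1 imgs_chunk2

theorem imgs_upTo3 : ∀ i < 24000 + 8000, cert.imgOk i = true :=
  allUpTo_append (n := 24000) imgs_upTo2 imgs_chunk3

theorem imgs_upTo4 : ∀ i < 32000 + 8000, cert.imgOk i = true :=
  allUpTo_append (n := 32000) imgs_upTo3 imgs_chunk4

theorem imgs_upTo5 : ∀ i < 40000 + 1685, cert.imgOk i = true :=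
  allUpTo_append (n := 40000) imgs_upTo4 imgs_chunk5

theorem checked : cert.Checked where
  items := items_upTo37
  close := close_upTo32
  rels := rels_upTo91
  back := back_upTo2
  imgs := imgs_upTo5
  base := by decide +kernel
  small := by decide +kernel

end Cfsg.Agent.Lib.CosetEnum.SuzIdx
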